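import Cfsg.Agent.C3Derange.SympField

/-!
In `PSp₄(q)`, `q` odd, every involution fixes an extension field structure `Sp₂(q²)`.
-/

set_option autoImplicit false
set_option linter.style.haveILetI false

namespace CfsgLib.C3Derange

open Module Matrix CfsgLib.FieldExtMax CfsgLib.Classical.Symp

variable {F : Type*} [Field F]

local notation "V" => (Fin 2 ⊕ Fin 2 → F)
local notation "β" => Cfsg.sympForm 2 F

/-- A symplectic frame of a four dimensional space. -/
structure Frame (e1 f1 e2 f2 : V) : Prop where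
  p1 : β e1 f1 = 1
  p2 : β e2 f2 = 1
  o11 : β e1 e2 = 0
  o12 : β e1 f2 = 0
  o21 : β f1 e2 = 0
  o22 : β f1 f2 = 0


theorem Frame.expand {e1 f1 e2 f2 : V} (h : Frame e1 f1 e2 f2) (v : V) :
    v = β v f1 • e1 - β v e1 • f1 + β v f2 • e2 - β v e2 • f2 := by
  have hrev : β f1 e1 = -1 ∧ β f2 e2 = -1 ∧ β e2 e1 = 0 ∧ β f2 e1 = 0 ∧ β e2 f1 = 0 ∧ β f2 f1 = 0 := by
    rw [form_swap f1 e1, form_swap f2 e2, form_swap e2 e1, form_swap f2 e1, form_swap e2 f1, form_swap f2 f1,
      h.p1, h.p2, h.o11, h.o12, h.o21, h.o22]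
    simp
  obtain ⟨r1, r2, r3, r4, r5, r6⟩ := hrev
  let t : Fin 4 → V := ![e1, f1, e2, f2]
  have hli : LinearIndependent F t := by
    refine Fintype.linearIndependent_iff.2 fun g hg => ?_
    have hz : ∀ u, g 0 * β e1 u + g 1 * β f1 u + g 2 * β e2 u + g 3 * β f2 u = 0 := fun u => by
      have := congrArg (fun z => β z u) hg
      simpa [t, Fin.sum_univ_four, form_add_left, form_smul_left, form_zero_left] using this
    have h0 := hz f1
    have h1 := hz e1
    have h2 := hz f2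
    have h3 := hz e2
    simp [h.p1, h.p2, h.o11, h.o12, h.o21, h.o22, r1, r2, r3, r4, r5, r6, form_self] at h0 h1 h2 h3
    intro i
    fin_cases i <;> assumption
  have hspan := hli.span_eq_top_of_card_eq_finrank (by simp)
  set w := v - (β v f1 • e1 - β v e1 • f1 + β v f2 • e2 - β v e2 • f2) with hw
  have hperp : ∀ i, β w (t i) = 0 := by
    intro i
    fin_cases i <;>
      simp [t, w, form_sub_left, form_add_left, form_smul_left, form_self, h.p1, h.p2, h.o11, h.o12, h.o21,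
        h.o22, r1, r2, r3, r4, r5, r6]
  refine sub_eq_zero.1 (eq_zero_of_form_eq_zero (u := w) fun u => ?_)
  obtain ⟨c, rfl⟩ := (Submodule.mem_span_range_iff_exists_fun F).1 (hspan ▸ Submodule.mem_top :
    u ∈ Submodule.span F (Set.range t))
  rw [form_sum_right]
  exact Finset.sum_eq_zero fun i _ => by rw [form_smul_right, hperp, mul_zero]

/-- The map `e1 ↦ e2, f1 ↦ δ f2, e2 ↦ δ e1, f2 ↦ f1`. -/
def frameJ (δ : F) (e1 f1 e2 f2 : V) (v : V) : V :=
  β v f1 • e2 - (δ * β v e1) • f2 + (δ * β v f2) • e1 - β v e2 • f1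

theorem form_frame {e1 f1 e2 f2 e1' f1' e2' f2' : V} (h : Frame e1 f1 e2 f2) (h' : Frame e1' f1' e2' f2') (u v : V) :
    β (β u f1 • e1' - β u e1 • f1' + β u f2 • e2' - β u e2 • f2')
      (β v f1 • e1' - β v e1 • f1' + β v f2 • e2' - β v e2 • f2') = β u v := by
  conv_rhs => rw [h.expand u, h.expand v]
  simp only [form_sub_left, form_add_left, form_smul_left, form_sub_right, form_add_right, form_smul_right,
    form_self, form_swap f1' e1', form_swap f2' e2', form_swap e2' e1', form_swap f2' e1', form_swap e2' f1',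
    form_swap f2' f1', h'.p1, h'.p2, h'.o11, h'.o12, h'.o21, h'.o22,
    form_swap f1 e1, form_swap f2 e2, form_swap e2 e1, form_swap f2 e1, form_swap e2 f1,
    form_swap f2 f1, h.p1, h.p2, h.o11, h.o12, h.o21, h.o22]

/-- A symplectic map between two frames. -/
theorem exists_map_frame [Fintype F] {e1 f1 e2 f2 e1' f1' e2' f2' : V} (h : Frame e1 f1 e2 f2) (h' : Frame e1' f1' e2' f2') :
    ∃ g ∈ Cfsg.spGL 2 F, ∀ v, (g : Matrix (Fin 2 ⊕ Fin 2) (Fin 2 ⊕ Fin 2) F) *ᵥ v =
      β v f1 • e1' - β v e1 • f1' + β v f2 • e2' - β v e2 • f2' := by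
  let T : V →ₗ[F] V :=
    { toFun := fun v => β v f1 • e1' - β v e1 • f1' + β v f2 • e2' - β v e2 • f2'
      map_add' := fun u v => by simp only [form_add_left, add_smul]; abel
      map_smul' := fun c v => by
        simp only [form_smul_left, RingHom.id_apply, smul_sub, smul_add, smul_smul] }
  have hT : ∀ u v, β (T u) (T v) = β u v := form_frame h h'
  have hinj : Function.Injective T := fun u v huv => sub_eq_zero.1 (eq_zero_of_form_eq_zero fun w => by
    rw [← hT, map_sub, huv, sub_self, form_zero_left])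
  let e := LinearEquiv.ofInjectiveEndo T hinj
  refine ⟨glEquiv.symm e, SympFormStd.mem_spGL.2 fun u v => ?_, fun v => ?_⟩
  · rw [← glEquiv_apply, ← glEquiv_apply, MulEquiv.apply_symm_apply]
    exact hT u v
  · rw [← glEquiv_apply, MulEquiv.apply_symm_apply]
    rfl

/-- A vector with prescribed value of `v ↦ β(v, x v)` on a non-degenerate invariant subspace. -/
theorem exists_value [Fintype F] (h2 : (2 : F) ≠ 0) {x : Matrix (Fin 2 ⊕ Fin 2) (Fin 2 ⊕ Fin 2) F}
    (hiso : ∀ u v, β (x *ᵥ u) (x *ᵥ v) = β u v) (hsq : ∀ v, x *ᵥ (x *ᵥ v) = -v) {U : Submodule F V}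
    (hU : ∀ u ∈ U, x *ᵥ u ∈ U) {u : V} (hu : u ∈ U) {t : V} (ht : t ∈ U) (hut : β u t ≠ 0) (c : F) :
    ∃ v ∈ U, β v (x *ᵥ v) = c := by
  have hsym : ∀ u v, β u (x *ᵥ v) = β v (x *ᵥ u) := fun u v => by
    rw [← hiso u (x *ᵥ v), hsq, form_neg_right, form_swap (x *ᵥ u) v, neg_neg]
  obtain ⟨v, hv, hv0⟩ : ∃ v ∈ U, β v (x *ᵥ v) ≠ 0 := by
    by_contra! hcon
    have h := hcon (u + -(x *ᵥ t)) (U.add_mem hu (U.neg_mem (hU t ht)))
    rw [Matrix.mulVec_add, Matrix.mulVec_neg, hsq, neg_neg, form_add_left, form_add_right, form_add_right,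
      hcon u hu, form_neg_left, form_neg_left] at h
    have h1 : β (x *ᵥ t) t = 0 := by rw [form_swap, hcon t ht, neg_zero]
    have h3 : β (x *ᵥ t) (x *ᵥ u) = β t u := hiso t u
    rw [h1, h3, form_swap t u] at h
    exact hut (mul_left_cancel₀ h2 (by linear_combination h))
  obtain ⟨a, b, hab⟩ := FiniteField.exists_root_sum_quadratic (f := Polynomial.X ^ 2)
    (g := Polynomial.X ^ 2 - Polynomial.C (c * (β v (x *ᵥ v))⁻¹)) (Polynomial.degree_X_pow 2)
    (Polynomial.degree_X_pow_sub_C (by norm_num) _) (FiniteField.odd_card_of_char_ne_two fun h => h2 (by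
      have := ringChar.Nat.cast_ringChar (R := F)
      rw [h] at this
      exact_mod_cast this))
  simp only [Polynomial.eval_pow, Polynomial.eval_X, Polynomial.eval_sub, Polynomial.eval_C] at hab
  refine ⟨a • v + b • (x *ᵥ v), U.add_mem (U.smul_mem _ hv) (U.smul_mem _ (hU v hv)), ?_⟩
  have h4 : β (x *ᵥ v) v = -β v (x *ᵥ v) := form_swap _ _
  simp only [Matrix.mulVec_add, Matrix.mulVec_smul, hsq, form_add_left, form_add_right, form_smul_left,
    form_smul_right, form_neg_right, form_self, hiso, h4]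
  field_simp at hab
  linear_combination hab

/-- Every involution of `PSp₄(q)` semicommutes with some conjugate of a given structure. -/
theorem involution_fixes [Fintype F] (h2 : (2 : F) ≠ 0)
    {K : Subalgebra F (Matrix (Fin 2 ⊕ Fin 2) (Fin 2 ⊕ Fin 2) F)} (hK : Cfsg.Geo.IsFieldSubalgebra 2 K)
    (hsa : Cfsg.Geo.IsSelfAdjointFor β K) (halt : ∀ a ∈ K, ∀ v : V, β (a *ᵥ v) v = 0)
    {x : GL (Fin 2 ⊕ Fin 2) F} (hx : x ∈ Cfsg.spGL 2 F) {z : F}
    (hz : ((x ^ 2 : GL (Fin 2 ⊕ Fin 2) F) : Matrix (Fin 2 ⊕ Fin 2) (Fin 2 ⊕ Fin 2) F) = z • 1)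
    (hns : ∀ c : F, (x : Matrix (Fin 2 ⊕ Fin 2) (Fin 2 ⊕ Fin 2) F) ≠ c • 1) :
    ∃ g ∈ Cfsg.spGL 2 F, g⁻¹ * x * g ∈ Cfsg.Geo.subalgebraNormalizer K := by
  classical
  have hodd : ringChar F ≠ 2 := fun h => h2 (by
    have := ringChar.Nat.cast_ringChar (R := F)
    rw [h] at this
    exact_mod_cast this)
  -- the generator of `K`
  obtain ⟨δ, hδ⟩ := FiniteField.exists_nonsquare hodd
  letI : Field K := fieldOf hK
  haveI : Fintype K := Fintype.ofFinite K
  have hcard : Fintype.card K = Fintype.card F ^ 2 := by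
    rw [← Nat.card_eq_fintype_card, Module.natCard_eq_pow_finrank (K := F), Nat.card_eq_fintype_card,
      hK.finrank_eq]
  have hδ0 : δ ≠ 0 := fun h => hδ (h ▸ ⟨0, by simp⟩)
  obtain ⟨J, hJ⟩ : IsSquare (algebraMap F K δ) := by
    rw [FiniteField.isSquare_iff (by rwa [← Algebra.ringChar_eq F K]) (by simpa using hδ0), hcard]
    have ho : Odd (Fintype.card F) := Nat.odd_iff.2 (FiniteField.odd_card_of_char_ne_two hodd)
    obtain ⟨m, hm⟩ := ho
    rw [← map_pow, hm, show (2 * m + 1) ^ 2 / 2 = (2 * m) * (m + 1) by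
      rw [show (2 * m + 1) ^ 2 = 2 * ((2 * m) * (m + 1)) + 1 by ring]; omega, pow_mul,
      show 2 * m = Fintype.card F - 1 by omega, FiniteField.pow_card_sub_one_eq_one δ hδ0, one_pow, map_one]
  set Jm : Matrix (Fin 2 ⊕ Fin 2) (Fin 2 ⊕ Fin 2) F := J.1 with hJm
  have hJsq : ∀ v, Jm *ᵥ (Jm *ᵥ v) = δ • v := fun v => by
    rw [Matrix.mulVec_mulVec, hJm]
    have h1 := congrArg Subtype.val hJ
    rw [show ((J * J : K) : Matrix (Fin 2 ⊕ Fin 2) (Fin 2 ⊕ Fin 2) F) = J.1 * J.1 from rfl] at h1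
    rw [← h1, Subalgebra.coe_algebraMap, Algebra.algebraMap_eq_smul_one, Matrix.smul_mulVec,
      Matrix.one_mulVec]
  have hli : LinearIndependent F ![(1 : K), J] := by
    refine LinearIndependent.pair_iff.2 fun s t h => ?_
    by_cases ht : t = 0
    · subst ht
      refine ⟨?_, rfl⟩
      simpa using h
    · refine absurd ⟨-(s / t), ?_⟩ hδ
      apply (algebraMap F K).injective
      rw [map_mul, map_neg, map_div₀, hJ]
      rw [Algebra.smul_def, Algebra.smul_def, mul_one] at h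
      have ht' : algebraMap F K t ≠ 0 := by simpa using ht
      field_simp
      linear_combination (algebraMap F K t * J - algebraMap F K s) * h
  have hgen : ∀ l : K, ∃ a b : F, l = a • 1 + b • J := fun l => by
    have hspan := hli.span_eq_top_of_card_eq_finrank (by simp [hK.finrank_eq])
    obtain ⟨c, hc⟩ := (Submodule.mem_span_range_iff_exists_fun F).1
      (hspan ▸ Submodule.mem_top : l ∈ Submodule.span F (Set.range ![(1 : K), J]))
    exact ⟨c 0, c 1, by simpa [Fin.sum_univ_two] using hc.symm⟩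
  -- a frame adapted to `J`
  set v : V := stdE 0 with hv
  have hv0 : v ≠ 0 := fun h => by simpa [hv, stdE] using congrFun h (Sum.inr 0)
  have hJv : Jm *ᵥ v ∉ Submodule.span F {v} := by
    intro hm
    obtain ⟨c, hc⟩ := Submodule.mem_span_singleton.1 hm
    refine hδ ⟨c, ?_⟩
    have h1 := hJsq v
    rw [← hc, Matrix.mulVec_smul, ← hc, smul_smul] at h1
    exact (smul_left_injective F hv0 h1).symm
  obtain ⟨w, hw1, hw2⟩ := exists_form_eq_eq hv0 hJv 1 0
  have hJJ : ∀ u u', β (Jm *ᵥ u) u' = β u (Jm *ᵥ u') := hsa J J.2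
  have hJself : ∀ u, β (Jm *ᵥ u) u = 0 := halt J J.2
  have hfr : Frame v w (Jm *ᵥ v) (δ⁻¹ • (Jm *ᵥ w)) :=
    { p1 := hw1
      p2 := by rw [form_smul_right, hJJ, hJsq, form_smul_right, hw1]; field_simp
      o11 := by rw [form_swap, hJself, neg_zero]
      o12 := by rw [form_smul_right, ← hJJ, hw2, mul_zero]
      o21 := by rw [form_swap, hw2, neg_zero]
      o22 := by rw [form_smul_right, form_swap, hJself, neg_zero, mul_zero] }
  -- it suffices to semicommute with the model map of some frame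
  suffices ∃ (e1 f1 e2 f2 : V) (s : F), Frame e1 f1 e2 f2 ∧
      ∀ u, (x : Matrix (Fin 2 ⊕ Fin 2) (Fin 2 ⊕ Fin 2) F) *ᵥ frameJ δ e1 f1 e2 f2 u =
        s • frameJ δ e1 f1 e2 f2 ((x : Matrix (Fin 2 ⊕ Fin 2) (Fin 2 ⊕ Fin 2) F) *ᵥ u) by
    obtain ⟨e1, f1, e2, f2, s, hF, hs⟩ := this
    obtain ⟨g, hg, hgv⟩ := exists_map_frame hfr hF
    refine ⟨g, hg, (mem_normalizer_iff hK _).2 fun l hl => ?_⟩
    obtain ⟨a, b, hab⟩ := hgen ⟨l, hl⟩
    have hlm : l = a • 1 + b • Jm := congrArg Subtype.val hab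
    refine ⟨a • 1 + (b * s) • Jm, K.add_mem (K.smul_mem K.one_mem a) (K.smul_mem J.2 _), fun y => ?_⟩
    set G := (g : Matrix (Fin 2 ⊕ Fin 2) (Fin 2 ⊕ Fin 2) F) with hG
    set G' := ((g⁻¹ : GL (Fin 2 ⊕ Fin 2) F) : Matrix (Fin 2 ⊕ Fin 2) (Fin 2 ⊕ Fin 2) F) with hG'
    have hgJ : ∀ u, G *ᵥ (Jm *ᵥ u) = frameJ δ e1 f1 e2 f2 (G *ᵥ u) := by
      intro u
      have c1 : β (G *ᵥ u) f1 = β u w := by
        rw [hgv]
        simp [form_sub_left, form_add_left, form_smul_left, form_self, hF.p1, form_swap f2 f1, hF.o22,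
          form_swap e2 f1, hF.o21]
      have c2 : β (G *ᵥ u) e1 = β u v := by
        rw [hgv]
        simp [form_sub_left, form_add_left, form_smul_left, form_self, form_swap f1 e1, hF.p1, form_swap e2 e1,
          hF.o11, form_swap f2 e1, hF.o12]
      have c3 : β (G *ᵥ u) f2 = δ⁻¹ * β u (Jm *ᵥ w) := by
        rw [hgv]
        simp [form_sub_left, form_add_left, form_smul_left, form_smul_right, form_self, hF.o12, hF.o22, hF.p2]
      have c4 : β (G *ᵥ u) e2 = β u (Jm *ᵥ v) := by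
        rw [hgv]
        simp [form_sub_left, form_add_left, form_smul_left, form_self, hF.o11, hF.o21, form_swap f2 e2, hF.p2]
      rw [frameJ, c1, c2, c3, c4, hgv, hJJ, hJJ, hJJ, hJJ]
      simp only [Matrix.mulVec_smul, hJsq, form_smul_right, smul_smul, ← mul_assoc, inv_mul_cancel₀ hδ0,
        mul_inv_cancel₀ hδ0, one_mul, one_smul]
      abel
    have hinv : ∀ u, G' *ᵥ (G *ᵥ u) = u := fun u => by
      rw [Matrix.mulVec_mulVec, hG, hG', ← Units.val_mul, inv_mul_cancel, Units.val_one, Matrix.one_mulVec]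
    have hinv' : ∀ u, G *ᵥ (G' *ᵥ u) = u := fun u => by
      rw [Matrix.mulVec_mulVec, hG, hG', ← Units.val_mul, mul_inv_cancel, Units.val_one, Matrix.one_mulVec]
    simp only [Units.val_mul, ← Matrix.mulVec_mulVec, ← hG, ← hG', hlm, Matrix.add_mulVec, Matrix.smul_mulVec,
      Matrix.one_mulVec, Matrix.mulVec_add, Matrix.mulVec_smul]
    rw [hgJ, hs, Matrix.mulVec_smul, smul_smul]
    congr 1
    congr 1
    rw [← hinv (Jm *ᵥ (G' *ᵥ _)), hgJ, hinv']
  -- the frames
  set X := (x : Matrix (Fin 2 ⊕ Fin 2) (Fin 2 ⊕ Fin 2) F) with hX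
  have hiso : ∀ u u', β (X *ᵥ u) (X *ᵥ u') = β u u' := SympFormStd.mem_spGL.1 hx
  have hsq : ∀ u, X *ᵥ (X *ᵥ u) = z • u := fun u => by
    rw [Matrix.mulVec_mulVec, ← sq, hX, ← Units.val_pow_eq_pow_val, hz, Matrix.smul_mulVec, Matrix.one_mulVec]
  have hzz : z * z = 1 := by
    have h := hiso (X *ᵥ v) (X *ᵥ w)
    rw [hsq, hsq, hiso, form_smul_left, form_smul_right, hw1] at h
    linear_combination h
  rcases mul_self_eq_one_iff.1 hzz with rfl | rfl
  · simp only [one_smul] at hsq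
    have hsym : ∀ u u', β u (X *ᵥ u') = β (X *ᵥ u) u' := fun u u' => by rw [← hiso, hsq]
    have key : ∀ ε : F, ε * ε = 1 → ∃ e f, X *ᵥ e = ε • e ∧ X *ᵥ f = ε • f ∧ β e f = 1 := by
      intro ε hε
      obtain ⟨u, hu⟩ : ∃ u, u + ε • (X *ᵥ u) ≠ 0 := by
        by_contra! h
        refine hns (-ε) (Matrix.ext_of_mulVec_single fun i => ?_)
        have h1 := congrArg (fun y => ε • y) (h (Pi.single i 1))
        simp only [smul_add, smul_smul, hε, one_smul, smul_zero] at h1
        rw [Matrix.smul_mulVec, Matrix.one_mulVec, eq_neg_of_add_eq_zero_right h1, neg_smul]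
      have he : X *ᵥ (u + ε • (X *ᵥ u)) = ε • (u + ε • (X *ᵥ u)) := by
        rw [Matrix.mulVec_add, Matrix.mulVec_smul, hsq, smul_add, smul_smul, hε, one_smul, add_comm]
      obtain ⟨t, ht⟩ := exists_form_eq_one hu
      refine ⟨u + ε • (X *ᵥ u), (2 : F)⁻¹ • (t + ε • (X *ᵥ t)), he, ?_, ?_⟩
      · rw [Matrix.mulVec_smul, Matrix.mulVec_add, Matrix.mulVec_smul, hsq, smul_smul ε, mul_comm ε,
          ← smul_smul, smul_add ε, smul_smul ε, hε, one_smul, add_comm (ε • t)]
      · rw [form_smul_right, form_add_right, ht, form_smul_right, hsym, he, form_smul_left, ht, mul_one, hε]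
        field_simp
        ring
    obtain ⟨e1, f1, he1, hf1, hp1⟩ := key 1 (one_mul 1)
    obtain ⟨e2, f2, he2, hf2, hp2⟩ := key (-1) (by ring)
    rw [one_smul] at he1 hf1
    rw [neg_one_smul] at he2 hf2
    have horth : ∀ a b, X *ᵥ a = a → X *ᵥ b = -b → β a b = 0 := fun a b ha hb => by
      have := hiso a b
      rw [ha, hb, form_neg_right] at this
      exact mul_left_cancel₀ h2 (by linear_combination -this)
    refine ⟨e1, f1, e2, f2, -1, ⟨hp1, hp2, horth _ _ he1 he2, horth _ _ he1 hf2, horth _ _ hf1 he2,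
      horth _ _ hf1 hf2⟩, fun u => ?_⟩
    have c1 : β (X *ᵥ u) e1 = β u e1 := by rw [← hsym, he1]
    have c2 : β (X *ᵥ u) f1 = β u f1 := by rw [← hsym, hf1]
    have c3 : β (X *ᵥ u) e2 = -β u e2 := by rw [← hsym, he2, form_neg_right]
    have c4 : β (X *ᵥ u) f2 = -β u f2 := by rw [← hsym, hf2, form_neg_right]
    simp only [frameJ, Matrix.mulVec_add, Matrix.mulVec_sub, Matrix.mulVec_smul, he1, hf1, he2, hf2, c1, c2, c3, c4]
    module
  · simp only [neg_one_smul] at hsq
    obtain ⟨t, ht⟩ := exists_form_eq_one hv0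
    obtain ⟨e1, -, he1⟩ := exists_value h2 hiso hsq (U := ⊤) (fun u _ => Submodule.mem_top) (u := v)
      Submodule.mem_top (t := t) Submodule.mem_top (by rw [ht]; exact one_ne_zero) 1
    set f1 := X *ᵥ e1 with hf1
    let U : Submodule F V :=
      { carrier := {u | β u e1 = 0 ∧ β u f1 = 0}
        add_mem' := fun {a b} ha hb => ⟨by rw [form_add_left, ha.1, hb.1, add_zero],
          by rw [form_add_left, ha.2, hb.2, add_zero]⟩
        zero_mem' := ⟨form_zero_left _, form_zero_left _⟩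
        smul_mem' := fun c a ha => ⟨by rw [form_smul_left, ha.1, mul_zero],
          by rw [form_smul_left, ha.2, mul_zero]⟩ }
    have hadj : ∀ u u', β (X *ᵥ u) u' = -β u (X *ᵥ u') := fun u u' => by
      rw [← hiso u (X *ᵥ u'), hsq, form_neg_right, neg_neg]
    have hUx : ∀ u ∈ U, X *ᵥ u ∈ U := fun u hu => ⟨by rw [hadj, ← hf1, hu.2, neg_zero],
      by rw [hadj, hf1, hsq, form_neg_right, neg_neg, hu.1]⟩
    let π : V → V := fun u => u - β u f1 • e1 + β u e1 • f1
    have hπ : ∀ u, π u ∈ U := fun u => by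
      have h1 : β f1 e1 = -1 := by rw [form_swap, he1]
      constructor <;> simp [π, form_add_left, form_sub_left, form_smul_left, form_self, he1, h1]
    obtain ⟨u, hu, hu0⟩ : ∃ u ∈ U, u ≠ 0 := by
      by_contra! h
      have h1 : Submodule.span F (Set.range ![e1, f1]) = ⊤ := by
        refine Submodule.eq_top_iff'.2 fun u => (Submodule.mem_span_range_iff_exists_fun F).2
          ⟨![β u f1, -β u e1], ?_⟩
        have h2 := h _ (hπ u)
        simp only [Fin.sum_univ_two, Matrix.cons_val_zero, Matrix.cons_val_one, π] at h2 ⊢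
        linear_combination (norm := module) -h2
      have h3 := finrank_range_le_card (R := F) (b := ![e1, f1])
      rw [Set.finrank, h1, finrank_top, Fintype.card_fin] at h3
      simp at h3
    obtain ⟨t', ht'⟩ := exists_form_eq_one hu0
    obtain ⟨e2, he2U, he2⟩ := exists_value h2 hiso hsq hUx hu (hπ t') (by
      simp [π, form_add_right, form_sub_right, form_smul_right, hu.1, hu.2, ht']) δ
    have hf2U := hUx e2 he2U
    refine ⟨e1, f1, e2, δ⁻¹ • (X *ᵥ e2), 1, ⟨he1, by rw [form_smul_right, he2, inv_mul_cancel₀ hδ0],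
      by rw [form_swap, he2U.1, neg_zero], by rw [form_smul_right, form_swap, hf2U.1, neg_zero, mul_zero],
      by rw [form_swap, he2U.2, neg_zero], by rw [form_smul_right, form_swap, hf2U.2, neg_zero, mul_zero]⟩,
      fun u => ?_⟩
    have c1 : β (X *ᵥ u) f1 = β u e1 := by rw [hf1]; exact hiso u e1
    have c2 : β (X *ᵥ u) e1 = -β u f1 := hadj _ _
    have c3 : β (X *ᵥ u) (δ⁻¹ • (X *ᵥ e2)) = δ⁻¹ * β u e2 := by rw [form_smul_right, hiso]
    have c4 : β (X *ᵥ u) e2 = -(δ * β u (δ⁻¹ • (X *ᵥ e2))) := by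
      rw [form_smul_right, ← mul_assoc, mul_inv_cancel₀ hδ0, one_mul, hadj]
    have hxf1 : X *ᵥ f1 = -e1 := by rw [hf1, hsq]
    simp only [frameJ, Matrix.mulVec_add, Matrix.mulVec_sub, Matrix.mulVec_smul, c1, c2, c3, c4, hxf1, ← hf1, hsq,
      one_smul, smul_neg, smul_smul]
    match_scalars <;> field_simp

end CfsgLib.C3Derange
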